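import Mathlib
import Cfsg.Prelude.Def_Solvable
import Cfsg.Agent.Lib.CharInt.FrobeniusKernel
import Cfsg.Agent.Lib.PGroup.Basic

/-!
Normal subgroups `N` all of whose elements outside `Z := N ⊓ C(N)` have maximal centralisers.

* `exists_normal_centralizer`: some `C_N(x)`, `x ∈ N \ Z`, is normal in `G`.
* `structure_of_maximal_centralizers`: either `N/Z` is an elementary abelian `p`-group, or there is
  `Z < L < N`, `L/Z` elementary abelian, `|N : L| = r` prime, with fixed-point-free action.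
-/

set_option autoImplicit false

namespace Cfsg.Agent.MaxCentralizer

open Subgroup
open scoped Pointwise

/-- `∑ 1/k² ≤ 1 - 1/n`. -/
theorem sum_inv_sq_le (n : ℕ) (hn : 1 ≤ n) :
    (∑ k ∈ Finset.Icc 2 n, ((1 : ℚ) / (k : ℚ) ^ 2)) ≤ (1 : ℚ) - 1 / (n : ℚ) := by
  induction n, hn using Nat.le_induction with
  | base => simp
  | succ n hn ih =>
    rw [Finset.sum_Icc_succ_top (by omega)]
    have hn' : (1 : ℚ) ≤ n := by exact_mod_cast hn
    have key : (1 : ℚ) / ((n + 1 : ℕ) : ℚ) ^ 2 ≤ 1 / n - 1 / ((n + 1 : ℕ) : ℚ) := by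
      push_cast
      rw [div_sub_div _ _ (by positivity) (by positivity), div_le_div_iff₀ (by positivity) (by positivity)]
      nlinarith
    push_cast at key ⊢
    linarith

section CentralizerPartition

variable {Q : Type*} [Group Q] [Finite Q]

/-- No nontrivial finite group has all centralisers of nontrivial elements proper, self-normalising, and
either abelian or of prime-power order. -/
theorem false_of_selfnormalizing_centralizers [Nontrivial Q]
    (hsn : ∀ c : Q, c ≠ 1 → normalizer ((centralizer ({c} : Set Q)) : Set Q) = centralizer ({c} : Set Q))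
    (hne : ∀ c : Q, c ≠ 1 → centralizer ({c} : Set Q) ≠ ⊤)
    (hdi : ∀ c : Q, c ≠ 1 → IsMulCommutative (centralizer ({c} : Set Q)) ∨
      ∃ p : ℕ, p.Prime ∧ IsPGroup p (centralizer ({c} : Set Q))) : False := by
  classical
  let C : Q → Subgroup Q := fun c => centralizer ({c} : Set Q)
  have hmem : ∀ a b : Q, a ∈ C b ↔ a * b = b * a := fun a b => mem_centralizer_singleton_iff
  -- abelian centralisers form a partition into Frobenius complements
  have hTI : ∀ c d : Q, c ≠ 1 → d ≠ 1 → IsMulCommutative (C c) → d ∈ C c →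
      IsMulCommutative (C d) → C d = C c := by
    intro c d hc hd hab hdc habd
    have h1 : C c ≤ C d := fun a ha => (hmem a d).mpr
      (congrArg Subtype.val (hab.is_comm.comm (⟨a, ha⟩ : C c) ⟨d, hdc⟩))
    have hcd : c ∈ C d := h1 ((hmem c c).mpr rfl)
    exact le_antisymm (fun a ha => (hmem a c).mpr
      (congrArg Subtype.val (habd.is_comm.comm (⟨a, ha⟩ : C d) ⟨c, hcd⟩))) h1
  have hconj : ∀ (c g a : Q), a ∈ C (g * c * g⁻¹) ↔ g⁻¹ * a * g ∈ C c := by
    intro c g a
    rw [hmem, hmem]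
    constructor
    · intro h
      calc g⁻¹ * a * g * c = g⁻¹ * (a * (g * c * g⁻¹)) * g := by group
        _ = g⁻¹ * (g * c * g⁻¹ * a) * g := by rw [h]
        _ = c * (g⁻¹ * a * g) := by group
    · intro h
      calc a * (g * c * g⁻¹) = g * (g⁻¹ * a * g * c) * g⁻¹ := by group
        _ = g * (c * (g⁻¹ * a * g)) * g⁻¹ := by rw [h]
        _ = g * c * g⁻¹ * a := by group
  have hab_conj : ∀ (c g : Q), IsMulCommutative (C c) → IsMulCommutative (C (g * c * g⁻¹)) := by
    intro c g hab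
    refine ⟨⟨fun a b => Subtype.ext ?_⟩⟩
    have h := congrArg Subtype.val (hab.is_comm.comm (⟨_, (hconj c g a).mp a.2⟩ : C c) ⟨_, (hconj c g b).mp b.2⟩)
    simp only [Subgroup.coe_mul] at h
    calc (a : Q) * b = g * ((g⁻¹ * a * g) * (g⁻¹ * b * g)) * g⁻¹ := by group
      _ = g * ((g⁻¹ * b * g) * (g⁻¹ * a * g)) * g⁻¹ := by rw [h]
      _ = (b : Q) * a := by group
  -- abelian case: the kernel of a Frobenius complement
  by_cases hA : ∃ c : Q, c ≠ 1 ∧ IsMulCommutative (C c)
  · obtain ⟨c, hc, hab⟩ := hA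
    have hFr : Cfsg.IsFrobeniusComplement (C c) := by
      refine ⟨fun h => hc (by have := (hmem c c).mpr rfl; rwa [h, mem_bot] at this), hne c hc, fun g hg => ?_⟩
      refine (Subgroup.eq_bot_iff_forall _).mpr fun d hd => ?_
      by_contra hd1
      obtain ⟨h1, h2⟩ := mem_inf.mp hd
      rw [Coprime.mem_conj_smul_iff] at h2
      have e1 : IsMulCommutative (C d) := by
        rcases hdi d hd1 with h | ⟨p, hp, hP⟩
        · exact h
        · refine ⟨⟨fun a b => ?_⟩⟩
          -- `C c ≤ C d` and `C c` is self-normalising in the nilpotent `C d`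
          have := Fact.mk hp
          have hle : C c ≤ C d := fun a ha => (hmem a d).mpr
            (congrArg Subtype.val (hab.is_comm.comm (⟨a, ha⟩ : C c) ⟨d, h1⟩))
          have heq : C c = C d := by
            by_contra hne'
            have hlt := PGroup.lt_normalizer hP (H := (C c).subgroupOf (C d))
              (fun h => hne' (le_antisymm hle (Subgroup.subgroupOf_eq_top.mp h)))
            obtain ⟨n, hn, hn'⟩ := SetLike.exists_of_lt hlt
            apply hn'
            show (n : Q) ∈ C c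
            rw [show C c = centralizer ({c} : Set Q) from rfl, ← hsn c hc, mem_normalizer_iff]
            intro a
            constructor
            · intro ha
              exact (mem_normalizer_iff.mp hn ⟨a, hle ha⟩).mp ha
            · intro ha
              have hm : a ∈ C d := by
                have := (C d).mul_mem ((C d).mul_mem ((C d).inv_mem n.2) (hle ha)) n.2
                simpa [mul_assoc] using this
              exact (mem_normalizer_iff.mp hn ⟨a, hm⟩).mpr ha
          exact Subtype.ext (congrArg Subtype.val (hab.is_comm.comm (⟨a, by rw [heq]; exact a.2⟩ : C c) ⟨b, by rw [heq]; exact b.2⟩) :)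
      have hcd := hTI c d hc hd1 hab h1 e1
      have hd2 : g⁻¹ * d * g ≠ 1 := fun e => hd1 (by
        have := congrArg (fun t => g * t * g⁻¹) e; simpa [mul_assoc] using this)
      have e2 : IsMulCommutative (C (g⁻¹ * d * g)) := by have := hab_conj d g⁻¹ e1; rwa [inv_inv] at this
      have hcd2 := hTI c _ hc hd2 hab h2 e2
      apply hg
      show g ∈ C c
      rw [show C c = centralizer ({c} : Set Q) from rfl, ← hsn c hc, mem_normalizer_iff]
      intro a
      change a ∈ C c ↔ g * a * g⁻¹ ∈ C c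
      conv_lhs => rw [← hcd2, show g⁻¹ * d * g = g⁻¹ * d * g⁻¹⁻¹ by rw [inv_inv], hconj d g⁻¹ a, inv_inv, hcd]
    obtain ⟨K, hK, hKn, hKc⟩ := CharInt.exists_frobeniusKernel hFr
    have hK1 : K ≠ ⊥ := fun h => hne c hc (by
      rw [← Subgroup.index_eq_one, hKc.index_eq_card, h, Subgroup.card_bot])
    obtain ⟨p, hp, hpK⟩ := Nat.exists_prime_and_dvd (fun h => hK1 (Subgroup.card_eq_one.mp h) : Nat.card K ≠ 1)
    have := Fact.mk hp
    let P : Sylow p K := default
    set P' := (P : Subgroup K).map K.subtype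
    have hP' : IsPGroup p P' := P.2.map _
    have hP'1 : P' ≠ ⊥ := by
      rw [Ne, map_eq_bot_iff_of_injective _ K.subtype_injective]; exact P.ne_bot_of_dvd_card hpK
    have : Nontrivial P' := (nontrivial_iff_ne_bot P').mpr hP'1
    have := hP'.center_nontrivial
    obtain ⟨z, hz⟩ := exists_ne (1 : center P')
    set x : Q := ((z : P') : Q)
    have hx1 : x ≠ 1 := fun e => hz (Subtype.ext (Subtype.ext e))
    have hPC : P' ≤ C x := fun a ha => (hmem a x).mpr (congrArg Subtype.val (mem_center_iff.mp z.2 ⟨a, ha⟩))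
    have hxK : x ∈ K := map_subtype_le _ (z : P').2
    -- `C x ≤ K`
    have hCK : C x ≤ K := by
      intro a ha
      by_contra haK
      have ha' : a ∈ Cfsg.frobeniusKernel (C c) → False := fun h => haK (hK.symm ▸ h : a ∈ (K : Set Q))
      simp only [Cfsg.frobeniusKernel, Set.mem_ofPred_eq] at ha'
      have : ∃ g : Q, a ∈ MulAut.conj g • C c := by
        by_contra hall
        exact ha' (Or.inr fun g hg => hall ⟨g, hg⟩)
      obtain ⟨g, hg⟩ := this
      rw [Coprime.mem_conj_smul_iff] at hg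
      have ha1 : g⁻¹ * a * g ≠ 1 := fun e => ha' (Or.inl (by
        have := congrArg (fun t => g * t * g⁻¹) e; simpa [mul_assoc] using this))
      have hm := Frobenius.mem_of_commute hFr hg ha1 (g := g⁻¹ * x * g) (by
        show g⁻¹ * x * g * (g⁻¹ * a * g) = g⁻¹ * a * g * (g⁻¹ * x * g)
        calc g⁻¹ * x * g * (g⁻¹ * a * g) = g⁻¹ * (x * a) * g := by group
          _ = g⁻¹ * (a * x) * g := by rw [((hmem a x).mp ha).symm]
          _ = _ := by group)
      have hxK' := Subgroup.Normal.conj_mem hKn _ hxK g⁻¹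
      rw [inv_inv] at hxK'
      have := Subgroup.disjoint_def.mp hKc.disjoint hxK' hm
      exact hx1 (by have := congrArg (fun t => g * t * g⁻¹) this; simpa [mul_assoc] using this)
    -- `P'` is self-normalising, against the Frattini argument
    have hNP : normalizer (P' : Set Q) ≤ K := by
      rcases hdi x hx1 with h | ⟨q, hq, hPq⟩
      · intro n hn
        -- `n x n⁻¹` centralises `P'`
        have hPC' : ∀ a ∈ C x, a ∈ C x := fun a ha => ha
        have hnx : n * x * n⁻¹ ∈ C x := hPC ((mem_normalizer_iff.mp hn x).mp (z : P').2)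
        have hnx1 : n * x * n⁻¹ ≠ 1 := by simpa using hx1
        have e := hTI x _ hx1 hnx1 h hnx (hab_conj x n h)
        have hnC : n ∈ C x := by
          rw [show C x = centralizer ({x} : Set Q) from rfl, ← hsn x hx1, mem_normalizer_iff]
          intro a
          change a ∈ C x ↔ n * a * n⁻¹ ∈ C x
          conv_rhs => rw [← e, hconj x n]
          simp [mul_assoc]
        exact hCK hnC
      · have := Fact.mk hq
        have hqp : q = p := by
          obtain ⟨k, hk⟩ := IsPGroup.iff_card.mp hP'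
          obtain ⟨j, hj⟩ := IsPGroup.iff_card.mp hPq
          have hd := card_dvd_of_le hPC
          rw [hk, hj] at hd
          have hk0 : k ≠ 0 := fun h => hP'1 (Subgroup.card_eq_one.mp (by rw [hk, h, pow_zero]))
          exact ((Nat.prime_dvd_prime_iff_eq hp hq).mp (hp.dvd_of_dvd_pow ((dvd_pow_self p hk0).trans hd))).symm
        subst hqp
        have e : P' = C x := by
          refine le_antisymm hPC fun a ha => ?_
          have hle : (P : Subgroup K) ≤ (C x).subgroupOf K := fun b hb => hPC ⟨b, hb, rfl⟩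
          have := P.3 (hPq.comap_of_injective _ K.subtype_injective) hle
          exact ⟨⟨a, hCK ha⟩, this ▸ (show (⟨a, hCK ha⟩ : K) ∈ (C x).subgroupOf K from ha), rfl⟩
        rw [e, show C x = centralizer ({x} : Set Q) from rfl, hsn x hx1]
        exact hCK
    have hfr := Sylow.normalizer_sup_eq_top P
    have : K = ⊤ := top_le_iff.mp (hfr ▸ sup_le hNP le_rfl)
    exact hFr.1 (disjoint_top.mp (this ▸ hKc.disjoint).symm)
  -- no abelian centraliser: every centraliser is a nonabelian Sylow subgroup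
  simp only [not_exists, not_and] at hA
  have hSyl : ∀ c : Q, c ≠ 1 → ∃ (p : ℕ) (_ : Fact p.Prime) (P : Sylow p Q), (P : Subgroup Q) = C c := by
    intro c hc
    rcases hdi c hc with h | ⟨p, hp, hP⟩
    · exact absurd h (hA c hc)
    have := Fact.mk hp
    obtain ⟨P, hPle⟩ := hP.exists_le_sylow
    refine ⟨p, ⟨hp⟩, P, le_antisymm ?_ hPle⟩
    by_contra hnle
    have hlt := PGroup.lt_normalizer P.2 (H := (C c).subgroupOf (P : Subgroup Q))
      (fun h => hnle (Subgroup.subgroupOf_eq_top.mp h))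
    obtain ⟨n, hn, hn'⟩ := SetLike.exists_of_lt hlt
    apply hn'
    show (n : Q) ∈ C c
    rw [show C c = centralizer ({c} : Set Q) from rfl, ← hsn c hc, mem_normalizer_iff]
    intro a
    constructor
    · intro ha
      exact (mem_normalizer_iff.mp hn ⟨a, hPle ha⟩).mp ha
    · intro ha
      have hm : a ∈ (P : Subgroup Q) := by
        have := (P : Subgroup Q).mul_mem ((P : Subgroup Q).mul_mem ((P : Subgroup Q).inv_mem n.2) (hPle ha)) n.2
        simpa [mul_assoc] using this
      exact (mem_normalizer_iff.mp hn ⟨a, hm⟩).mpr ha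
  let S : ℕ → Set Q := fun p => {c | c ≠ 1 ∧ ∃ P : Sylow p Q, (P : Subgroup Q) = C c}
  set F := (Nat.card Q).primeFactors with hFdef
  have hcover : ({c : Q | c ≠ 1} : Set Q).ncard ≤ ∑ p ∈ F, (S p).ncard := by
    refine le_trans (Set.ncard_le_ncard (t := ⋃ p ∈ F, S p) ?_ (Set.toFinite _)) (Finset.set_ncard_biUnion_le _ _)
    intro c hc
    obtain ⟨p, hp, P, hP⟩ := hSyl c hc
    refine Set.mem_biUnion (x := p) ?_ ⟨hc, P, hP⟩
    rw [Finset.mem_coe, hFdef, Nat.mem_primeFactors]
    refine ⟨hp.out, ?_, Nat.card_pos.ne'⟩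
    have hb : (P : Subgroup Q) ≠ ⊥ := fun h => hc (by
      have h1 := (hmem c c).mpr rfl
      rwa [← hP, h, mem_bot] at h1)
    obtain ⟨k, hk⟩ := IsPGroup.iff_card.mp P.2
    have hk0 : k ≠ 0 := fun h => hb (Subgroup.card_eq_one.mp (by rw [hk, h, pow_zero]))
    exact (hk ▸ dvd_pow_self p hk0 : p ∣ Nat.card (P : Subgroup Q)).trans (card_subgroup_dvd_card _)
  have hbound : ∀ p ∈ F, ((S p).ncard : ℚ) ≤ (Nat.card Q : ℚ) / p ^ 2 := by
    intro p hp
    have := Fact.mk (Nat.prime_of_mem_primeFactors hp)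
    have := Fintype.ofFinite (Sylow p Q)
    let ZS : Sylow p Q → Set Q := fun P => {c | c ≠ 1 ∧ (P : Subgroup Q) = C c}
    have h1 : (S p).ncard ≤ ∑ P : Sylow p Q, (ZS P).ncard := by
      refine le_trans (Set.ncard_le_ncard (t := ⋃ P ∈ (Finset.univ : Finset (Sylow p Q)), ZS P) ?_ (Set.toFinite _))
        (Finset.set_ncard_biUnion_le _ _)
      rintro c ⟨hc, P, hP⟩
      exact Set.mem_biUnion (x := P) (Finset.mem_coe.mpr (Finset.mem_univ _)) ⟨hc, hP⟩
    have h2 : ∀ P : Sylow p Q, p ^ 2 * (ZS P).ncard ≤ Nat.card (P : Subgroup Q) := by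
      intro P
      rcases Set.eq_empty_or_nonempty (ZS P) with he | ⟨c, hc, hP⟩
      · rw [he, Set.ncard_empty, mul_zero]; exact Nat.zero_le _
      have hle : (ZS P).ncard ≤ Nat.card (center (P : Subgroup Q)) := by
        rw [← Subgroup.card_map_of_injective (K := center (P : Subgroup Q)) (P : Subgroup Q).subtype_injective, ← SetLike.coe_sort_coe, Nat.card_coe_set_eq]
        refine Set.ncard_le_ncard (fun d hd => ?_) (Set.toFinite _)
        have hdP : d ∈ (P : Subgroup Q) := hd.2 ▸ (hmem d d).mpr rfl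
        exact ⟨⟨d, hdP⟩, mem_center_iff.mpr fun b => Subtype.ext ((hmem b d).mp (hd.2 ▸ b.2)), rfl⟩
      obtain ⟨k, hk⟩ := P.2.index (center (P : Subgroup Q))
      rw [← Subgroup.card_mul_index (center (P : Subgroup Q)), hk, mul_comm _ (p ^ k)]
      refine Nat.mul_le_mul (Nat.pow_le_pow_right (Fact.out : p.Prime).pos ?_) hle
      by_contra hlt
      apply hA c hc
      rw [← hP]
      have : IsCyclic ((P : Subgroup Q) ⧸ center (P : Subgroup Q)) := by
        rcases Nat.lt_succ_iff.mp (Nat.not_le.mp hlt) |>.lt_or_eq with h0 | h0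
        · have : Subsingleton ((P : Subgroup Q) ⧸ center (P : Subgroup Q)) :=
            (Nat.card_eq_one_iff_unique.mp (by
              change (center (P : Subgroup Q)).index = 1
              rw [hk, Nat.lt_one_iff.mp h0, pow_zero])).1
          infer_instance
        · exact isCyclic_of_prime_card (p := p) (by
            change (center (P : Subgroup Q)).index = p
            rw [hk, h0, pow_one])
      exact MonoidHom.isMulCommutative_of_isCyclic_of_ker_le_center (QuotientGroup.mk' (center (P : Subgroup Q))) (by simp)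
    have h3 : p ^ 2 * (S p).ncard ≤ Nat.card Q := by
      let P0 : Sylow p Q := default
      calc p ^ 2 * (S p).ncard ≤ p ^ 2 * ∑ P : Sylow p Q, (ZS P).ncard := Nat.mul_le_mul_left _ h1
        _ = ∑ P : Sylow p Q, p ^ 2 * (ZS P).ncard := Finset.mul_sum ..
        _ ≤ ∑ P : Sylow p Q, Nat.card (P0 : Subgroup Q) := Finset.sum_le_sum fun P _ =>
            (h2 P).trans (by rw [P.card_eq_multiplicity, P0.card_eq_multiplicity])
        _ = Nat.card (Sylow p Q) * Nat.card (P0 : Subgroup Q) := by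
            rw [Finset.sum_const, Finset.card_univ, smul_eq_mul, ← Nat.card_eq_fintype_card]
        _ ≤ Nat.card Q := by
            have hd := P0.card_dvd_index
            calc Nat.card (Sylow p Q) * Nat.card (P0 : Subgroup Q) ≤ (P0 : Subgroup Q).index * Nat.card (P0 : Subgroup Q) :=
                Nat.mul_le_mul_right _ (Nat.le_of_dvd (Nat.pos_of_ne_zero Subgroup.index_ne_zero_of_finite) hd)
              _ = Nat.card Q := by rw [mul_comm, Subgroup.card_mul_index]
    rw [le_div_iff₀ (by have := (Fact.out : p.Prime).pos; positivity)]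
    calc ((S p).ncard : ℚ) * (p : ℚ) ^ 2 = ((p ^ 2 * (S p).ncard : ℕ) : ℚ) := by push_cast; ring
      _ ≤ _ := by exact_mod_cast h3
  have hn2 : 2 ≤ Nat.card Q := Finite.one_lt_card
  set n := Nat.card Q with hn
  have hnon : ({c : Q | c ≠ 1} : Set Q).ncard + 1 = n := by
    refine Eq.trans ?_ (Set.ncard_add_ncard_compl ({c : Q | c ≠ 1} : Set Q))
    congr 1
    rw [show ({c : Q | c ≠ 1} : Set Q)ᶜ = {1} by ext; simp, Set.ncard_singleton]
  have hsum : ((({c : Q | c ≠ 1} : Set Q).ncard : ℕ) : ℚ) ≤ (n : ℚ) * ∑ p ∈ F, 1 / (p : ℚ) ^ 2 := by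
    rw [Finset.mul_sum]
    refine le_trans (Nat.cast_le.mpr hcover) ?_
    rw [Nat.cast_sum]
    refine Finset.sum_le_sum fun p hp => le_trans (hbound p hp) (le_of_eq ?_)
    ring
  have hlt : ∑ p ∈ F, (1 : ℚ) / (p : ℚ) ^ 2 < 1 - 1 / n := by
    refine lt_of_lt_of_le ?_ (sum_inv_sq_le n (by omega))
    have hnp : n ∉ F := fun h => by
      have := Fact.mk (Nat.prime_of_mem_primeFactors h)
      have : IsCyclic Q := isCyclic_of_prime_card hn.symm
      obtain ⟨c, hc⟩ := exists_ne (1 : Q)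
      apply hA c hc
      exact ⟨⟨fun a b => Subtype.ext (mul_comm' (a : Q) b)⟩⟩
    refine Finset.sum_lt_sum_of_subset (i := n) ?_ (Finset.mem_Icc.mpr ⟨hn2, le_rfl⟩) hnp ?_ ?_
    · intro p hp
      rw [Finset.mem_Icc]
      exact ⟨(Nat.prime_of_mem_primeFactors hp).two_le, Nat.le_of_dvd (by omega) (Nat.dvd_of_mem_primeFactors hp)⟩
    · have : (0 : ℚ) < n := by exact_mod_cast (by omega : 0 < n)
      positivity
    · intro j _ _; positivity
  have hfin : ((({c : Q | c ≠ 1} : Set Q).ncard : ℕ) : ℚ) < (n : ℚ) - 1 := by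
    have h0 : (0 : ℚ) < n := by exact_mod_cast (by omega : 0 < n)
    calc _ ≤ (n : ℚ) * ∑ p ∈ F, 1 / (p : ℚ) ^ 2 := hsum
      _ < (n : ℚ) * (1 - 1 / n) := by exact mul_lt_mul_of_pos_left hlt h0
      _ = (n : ℚ) - 1 := by field_simp
  have : ((({c : Q | c ≠ 1} : Set Q).ncard : ℕ) : ℚ) = (n : ℚ) - 1 := by
    rw [← hnon]; push_cast; ring
  linarith

end CentralizerPartition

section Components

variable {G : Type*} [Group G] [Finite G]

/-- The `p`-component of an element, modulo a normal subgroup containing a `p`-power of it. -/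
theorem exists_component (Z : Subgroup G) [Z.Normal] {p : ℕ} (hp : p.Prime) (x : G) :
    ∃ i e : ℕ, orderOf (x ^ i) = p ^ e ∧ ((∃ k, x ^ p ^ k ∈ Z) → x⁻¹ * x ^ i ∈ Z) := by
  obtain ⟨e, m, hm, hn⟩ := Nat.exists_eq_pow_mul_and_not_dvd (orderOf_pos x).ne' p hp.ne_one
  have hco : Nat.Coprime (p ^ e) m := Nat.Coprime.pow_left e (hp.coprime_iff_not_dvd.mpr hm)
  obtain ⟨i, hi1, hi0⟩ := Nat.chineseRemainder hco 1 0
  have hpe : orderOf (x ^ i) ∣ p ^ e := by
    refine orderOf_dvd_of_pow_eq_one ?_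
    rw [← pow_mul, ← orderOf_dvd_iff_pow_eq_one, hn, mul_comm i]
    exact Nat.mul_dvd_mul_left _ (Nat.modEq_zero_iff_dvd.mp hi0)
  obtain ⟨j, -, hj⟩ := (Nat.dvd_prime_pow hp).mp hpe
  refine ⟨i, j, hj, ?_⟩
  rintro ⟨k, hk⟩
  rw [← QuotientGroup.eq_one_iff, QuotientGroup.mk_mul, QuotientGroup.mk_inv, QuotientGroup.mk_pow, inv_mul_eq_one]
  have h1 : orderOf (x : G ⧸ Z) ∣ p ^ k := orderOf_dvd_of_pow_eq_one (by
    rw [← QuotientGroup.mk_pow, QuotientGroup.eq_one_iff]; exact hk)
  have h2 : orderOf (x : G ⧸ Z) ∣ p ^ e * m := hn ▸ orderOf_map_dvd (QuotientGroup.mk' Z) x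
  have h3 : orderOf (x : G ⧸ Z) ∣ p ^ e :=
    (Nat.Coprime.coprime_dvd_left h1 (Nat.Coprime.pow_left k (hp.coprime_iff_not_dvd.mpr hm))).dvd_of_dvd_mul_right h2
  conv_lhs => rw [← pow_one (x : G ⧸ Z)]
  exact pow_eq_pow_iff_modEq.mpr ((hi1.of_dvd h3).symm)

/-- An element lies in a subgroup as soon as its powers of prime-power order do. -/
theorem mem_of_components {H : Subgroup G} {x : G}
    (h : ∀ (i p e : ℕ), p.Prime → orderOf (x ^ i) = p ^ e → x ^ i ∈ H) : x ∈ H := by
  have hle : Nat.card (zpowers x) ∣ Nat.card ↥(zpowers x ⊓ H) := by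
    rw [Nat.dvd_iff_prime_pow_dvd_dvd]
    intro p k hp hk
    rw [Nat.card_zpowers] at hk
    have ho := orderOf_pow_orderOf_div (orderOf_pos x).ne' hk
    rw [← ho]
    exact Subgroup.orderOf_dvd_natCard _ ⟨pow_mem (mem_zpowers x) _, h _ p k hp ho⟩
  have := Subgroup.eq_of_le_of_card_ge (inf_le_left : zpowers x ⊓ H ≤ zpowers x) (Nat.le_of_dvd Nat.card_pos hle)
  exact (this.ge (mem_zpowers x)).2

end Components

section Main

variable {G : Type*} [Group G] [Finite G] {N : Subgroup G}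

/-- The centre of `N`, as a subgroup of `G`. -/
abbrev zc (N : Subgroup G) : Subgroup G := N ⊓ centralizer (N : Set G)

/-- The hypothesis: maximal centralisers for elements outside the centre. -/
def Hyp (N : Subgroup G) : Prop :=
  ∀ x : G, x ∈ N → x ∉ zc N → IsCoatom (centralizer ({x} : Set G))

instance zc_normal [N.Normal] : (zc N).Normal := inferInstance

omit [Finite G] in
theorem zc_commute {z n : G} (hz : z ∈ zc N) (hn : n ∈ N) : Commute z n :=
  (mem_centralizer_iff.mp hz.2 n hn).symm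

theorem centralizer_pow_eq (h : Hyp N) {x : G} (hx : x ∈ N) {k : ℕ} (hk : x ^ k ∉ zc N) :
    centralizer ({x ^ k} : Set G) = centralizer ({x} : Set G) := by
  have hxZ : x ∉ zc N := fun e => hk (pow_mem e k)
  have hle : centralizer ({x} : Set G) ≤ centralizer ({x ^ k} : Set G) := fun g hg => by
    rw [mem_centralizer_singleton_iff] at hg ⊢
    exact ((show Commute g x from hg).pow_right k).eq
  rcases hle.lt_or_eq with hlt | he
  · exact absurd ((h x hx hxZ).2 _ hlt) (h _ (pow_mem hx k) hk).1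
  · exact he.symm

/-- Commuting noncentral elements of coprime orders have the same centraliser. -/
theorem centralizer_eq_of_coprime (h : Hyp N) {x y : G} (hx : x ∈ N) (hy : y ∈ N) (hxZ : x ∉ zc N)
    (hyZ : y ∉ zc N) (hc : Commute x y) (hco : (orderOf x).Coprime (orderOf y)) :
    centralizer ({x} : Set G) = centralizer ({y} : Set G) := by
  obtain ⟨i, hi1, hi2⟩ := Nat.chineseRemainder hco 1 0
  obtain ⟨j, hj1, hj2⟩ := Nat.chineseRemainder hco 0 1
  have hix : (x * y) ^ i = x := by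
    rw [hc.mul_pow]
    conv_rhs => rw [← mul_one x, ← pow_one x]
    rw [pow_eq_pow_iff_modEq.mpr hi1, orderOf_dvd_iff_pow_eq_one.mp (Nat.modEq_zero_iff_dvd.mp hi2)]
  have hjy : (x * y) ^ j = y := by
    rw [hc.mul_pow]
    conv_rhs => rw [← one_mul y, ← pow_one y]
    rw [pow_eq_pow_iff_modEq.mpr hj2, orderOf_dvd_iff_pow_eq_one.mp (Nat.modEq_zero_iff_dvd.mp hj1)]
  have e1 := centralizer_pow_eq h (mul_mem hx hy) (k := i) (by rwa [hix])
  have e2 := centralizer_pow_eq h (mul_mem hx hy) (k := j) (by rwa [hjy])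
  rw [hix] at e1
  rw [hjy] at e2
  rw [e1, e2]

omit [Finite G] in
theorem le_normalizer_inf [N.Normal] (H : Subgroup G) : H ≤ normalizer ((N ⊓ H : Subgroup G) : Set G) := by
  intro g hg
  rw [mem_normalizer_iff]
  intro a
  constructor
  · intro ha
    exact ⟨Subgroup.Normal.conj_mem inferInstance a ha.1 g, H.mul_mem (H.mul_mem hg ha.2) (H.inv_mem hg)⟩
  · intro ha
    refine ⟨?_, ?_⟩
    · have := Subgroup.Normal.conj_mem (inferInstance : N.Normal) _ ha.1 g⁻¹
      simpa [mul_assoc] using this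
    · have := H.mul_mem (H.mul_mem (H.inv_mem hg) ha.2) hg
      simpa [mul_assoc] using this

omit [Finite G] in
theorem inf_centralizer_ne [N.Normal] {x : G} (hx : x ∈ N) (hxZ : x ∉ zc N) :
    N ⊓ centralizer ({x} : Set G) < N :=
  lt_of_le_of_ne inf_le_left fun e => hxZ ⟨hx, mem_centralizer_iff.mpr fun n hn =>
    mem_centralizer_singleton_iff.mp (inf_eq_left.mp e hn)⟩

omit [Finite G] in
/-- Above a noncentral `C_N(x)` the only `G`-invariant subgroup in `N` is `N`. -/
theorem eq_of_normal_gt (h : Hyp N) [N.Normal] {x : G} (hx : x ∈ N) (hxZ : x ∉ zc N) {K : Subgroup G}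
    (hK : K.Normal) (hKN : K ≤ N) (hlt : N ⊓ centralizer ({x} : Set G) < K) : K = N := by
  have htop : centralizer ({x} : Set G) ⊔ K = ⊤ := by
    refine (h x hx hxZ).2 _ (lt_of_le_of_ne le_sup_left fun e => hlt.ne ?_)
    exact le_antisymm hlt.le (le_inf hKN (e ▸ le_sup_right))
  refine le_antisymm hKN fun n hn => ?_
  obtain ⟨c, hc, k, hk, rfl⟩ := mem_sup_of_normal_right.mp (htop ▸ mem_top n)
  refine mul_mem (hlt.le ⟨?_, hc⟩) hk
  simpa using mul_mem hn (inv_mem (hKN hk))

/-- If `N/Z` is a `p`-group it is elementary abelian. -/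
theorem elementary_of_pGroup (h : Hyp N) [hN : N.Normal] {p : ℕ} (hp : p.Prime)
    (hpg : ∀ x ∈ N, ∃ k : ℕ, x ^ p ^ k ∈ zc N) :
    (∀ x ∈ N, x ^ p ∈ zc N) ∧ ∀ a ∈ N, ∀ b ∈ N, a * b * a⁻¹ * b⁻¹ ∈ zc N := by
  classical
  have := Fact.mk hp
  have hnil : Group.IsNilpotent N := by
    have hq : IsPGroup p (N ⧸ center N) := by
      intro q
      obtain ⟨n, rfl⟩ := QuotientGroup.mk_surjective q
      obtain ⟨k, hk⟩ := hpg n n.2
      refine ⟨k, ?_⟩
      rw [← QuotientGroup.mk_pow, QuotientGroup.eq_one_iff, mem_center_iff]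
      intro m
      exact Subtype.ext (by push_cast; exact (zc_commute hk m.2).eq.symm)
    have := hq.isNilpotent
    exact Group.of_quotient_center_nilpotent this
  have key : ∀ x ∈ N, x ∉ zc N → ∀ a ∈ N, a ^ p ∈ centralizer ({x} : Set G) ∧
      ∀ b ∈ N, a * b * a⁻¹ * b⁻¹ ∈ centralizer ({x} : Set G) := by
    intro x hx hxZ
    set S := N ⊓ centralizer ({x} : Set G) with hS
    have hSlt : S < N := inf_centralizer_ne hx hxZ
    have hSn : S.Normal := by
      rw [← normalizer_eq_top_iff]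
      refine (h x hx hxZ).2 _ (lt_of_le_of_ne (le_normalizer_inf _) fun e => ?_)
      have hlt := Group.normalizerCondition_of_isNilpotent (S.subgroupOf N)
        (lt_top_iff_ne_top.mpr fun t => hSlt.not_ge (subgroupOf_eq_top.mp t))
      obtain ⟨n, hn, hn'⟩ := SetLike.exists_of_lt hlt
      apply hn'
      have hnS : (n : G) ∈ normalizer (S : Set G) := by
        rw [mem_normalizer_iff]
        intro a
        constructor
        · intro ha
          exact (mem_normalizer_iff.mp hn ⟨a, ha.1⟩).mp ha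
        · intro ha
          have hm : a ∈ N := by
            have := hN.conj_mem _ ha.1 (n : G)⁻¹
            simpa [mul_assoc] using this
          exact (mem_normalizer_iff.mp hn ⟨a, hm⟩).mpr ha
      exact ⟨n.2, e ▸ hnS⟩
    have hS' : (S.subgroupOf N).Normal := inferInstance
    have hne : Nontrivial (N ⧸ S.subgroupOf N) := by
      obtain ⟨n, hn, hn'⟩ := SetLike.exists_of_lt hSlt
      refine ⟨⟨QuotientGroup.mk ⟨n, hn⟩, 1, fun e => hn' ?_⟩⟩
      exact (QuotientGroup.eq_one_iff (⟨n, hn⟩ : N)).mp e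
    -- abelian quotient
    have hcomm : ∀ a ∈ N, ∀ b ∈ N, a * b * a⁻¹ * b⁻¹ ∈ S := by
      set W := ⁅N, N⁆ ⊔ S with hW
      have hWN : W ≤ N := sup_le (commutator_le_left N N) hSlt.le
      rcases (le_sup_right : S ≤ W).lt_or_eq with hlt | heq
      · exfalso
        have hWe := eq_of_normal_gt h hx hxZ (Subgroup.sup_normal _ _) hWN hlt
        have htop : commutator (N ⧸ S.subgroupOf N) = ⊤ := by
          rw [eq_top_iff]
          intro q _
          obtain ⟨n, rfl⟩ := QuotientGroup.mk_surjective q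
          obtain ⟨c, hc, s, hs, hcs⟩ := mem_sup_of_normal_right.mp (hWe.ge n.2 : (n : G) ∈ W)
          rw [← map_subtype_commutator, Subgroup.mem_map] at hc
          obtain ⟨c', hc', hcc⟩ := hc
          have e : (QuotientGroup.mk n : N ⧸ S.subgroupOf N) = QuotientGroup.mk c' := by
            rw [QuotientGroup.eq, mem_subgroupOf]
            push_cast
            rw [← hcs, show (c' : G) = c from hcc, mul_inv_rev, mul_assoc, inv_mul_cancel, mul_one]
            exact inv_mem hs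
          rw [e, ← QuotientGroup.mk'_apply]
          have := Subgroup.mem_map_of_mem (QuotientGroup.mk' (S.subgroupOf N)) hc'
          rwa [map_commutator_eq, MonoidHom.range_eq_top.mpr (QuotientGroup.mk'_surjective _)] at this
        exact (Group.IsSolvable.commutator_lt_top_of_nontrivial (N ⧸ S.subgroupOf N)).ne htop
      · intro a ha b hb
        exact heq.ge (mem_sup_left (commutator_mem_commutator ha hb))
    -- exponent
    have hq : IsPGroup p (N ⧸ S.subgroupOf N) := by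
      intro q
      obtain ⟨n, rfl⟩ := QuotientGroup.mk_surjective q
      obtain ⟨k, hk⟩ := hpg n n.2
      refine ⟨k, ?_⟩
      rw [← QuotientGroup.mk_pow, QuotientGroup.eq_one_iff, mem_subgroupOf]
      push_cast
      exact ⟨hk.1, mem_centralizer_singleton_iff.mpr (zc_commute hk hx).eq⟩
    letI : CommGroup (N ⧸ S.subgroupOf N) := { (inferInstance : Group (N ⧸ S.subgroupOf N)) with
      mul_comm := fun u v => by
        obtain ⟨a, rfl⟩ := QuotientGroup.mk_surjective u
        obtain ⟨b, rfl⟩ := QuotientGroup.mk_surjective v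
        rw [← QuotientGroup.mk_mul, ← QuotientGroup.mk_mul, QuotientGroup.eq, mem_subgroupOf]
        push_cast
        have := hcomm (b : G)⁻¹ (inv_mem b.2) (a : G)⁻¹ (inv_mem a.2)
        simpa [mul_assoc] using this }
    let φ : N →* N ⧸ S.subgroupOf N := (powMonoidHom p).comp (QuotientGroup.mk' _)
    set K := φ.ker.map N.subtype with hKdef
    have hKn : K.Normal := ⟨by
      rintro _ ⟨a, ha, rfl⟩ g
      refine ⟨⟨g * a * g⁻¹, hN.conj_mem _ a.2 g⟩, ?_, rfl⟩
      simp only [SetLike.mem_coe, MonoidHom.mem_ker, φ, MonoidHom.coe_comp, Function.comp_apply, powMonoidHom_apply,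
        QuotientGroup.mk'_apply, ← QuotientGroup.mk_pow, QuotientGroup.eq_one_iff, mem_subgroupOf] at ha ⊢
      push_cast at ha ⊢
      rw [conj_pow]
      exact hSn.conj_mem _ ha g⟩
    have hSK : S ≤ K := fun s hs => ⟨⟨s, hs.1⟩, by
      simp only [SetLike.mem_coe, MonoidHom.mem_ker, φ, MonoidHom.coe_comp, Function.comp_apply, powMonoidHom_apply,
        QuotientGroup.mk'_apply, ← QuotientGroup.mk_pow, QuotientGroup.eq_one_iff, mem_subgroupOf]
      push_cast
      exact pow_mem hs p, rfl⟩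
    have hKe : K = N := by
      refine eq_of_normal_gt h hx hxZ hKn (map_subtype_le _) (lt_of_le_of_ne hSK fun e => ?_)
      obtain ⟨j, hj⟩ := IsPGroup.iff_card.mp hq
      have hj0 : j ≠ 0 := fun e0 => by
        have h1 : 1 < Nat.card (N ⧸ S.subgroupOf N) := Finite.one_lt_card
        rw [hj, e0, pow_zero] at h1; exact lt_irrefl _ h1
      obtain ⟨u, hu⟩ := exists_prime_orderOf_dvd_card' p (hj ▸ dvd_pow_self p hj0)
      obtain ⟨a, rfl⟩ := QuotientGroup.mk_surjective u
      have haK : (a : G) ∈ K := ⟨a, by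
        simp only [SetLike.mem_coe, MonoidHom.mem_ker, φ, MonoidHom.coe_comp, Function.comp_apply, powMonoidHom_apply,
          QuotientGroup.mk'_apply]
        rw [← hu, pow_orderOf_eq_one], rfl⟩
      rw [← e] at haK
      have h1 : (QuotientGroup.mk a : N ⧸ S.subgroupOf N) = 1 := (QuotientGroup.eq_one_iff a).mpr haK
      rw [h1, orderOf_one] at hu
      exact hp.ne_one hu.symm
    intro a ha
    refine ⟨?_, fun b hb => (hcomm a ha b hb).2⟩
    obtain ⟨a', ha', rfl⟩ := (hKe.symm ▸ ha : a ∈ K)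
    simp only [SetLike.mem_coe, MonoidHom.mem_ker, φ, MonoidHom.coe_comp, Function.comp_apply, powMonoidHom_apply,
        QuotientGroup.mk'_apply, ← QuotientGroup.mk_pow, QuotientGroup.eq_one_iff, mem_subgroupOf] at ha'
    push_cast at ha'
    exact ha'.2
  refine ⟨fun a ha => ⟨pow_mem ha p, mem_centralizer_iff.mpr fun x hx => ?_⟩,
    fun a ha b hb => ⟨N.mul_mem (N.mul_mem (N.mul_mem ha hb) (N.inv_mem ha)) (N.inv_mem hb), mem_centralizer_iff.mpr fun x hx => ?_⟩⟩
  · by_cases hxZ : x ∈ zc N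
    · exact (zc_commute hxZ (pow_mem ha p)).eq
    · exact (mem_centralizer_singleton_iff.mp (key x hx hxZ a ha).1).symm
  · by_cases hxZ : x ∈ zc N
    · exact (zc_commute hxZ (mul_mem (mul_mem (mul_mem ha hb) (inv_mem ha)) (inv_mem hb))).eq
    · exact (mem_centralizer_singleton_iff.mp ((key x hx hxZ a ha).2 b hb)).symm

/-- Some centraliser in `N` of a noncentral element is normal in `G`. -/
theorem exists_normal_centralizer (h : Hyp N) [hN : N.Normal] (hne : ¬ N ≤ zc N) :
    ∃ x ∈ N, x ∉ zc N ∧ (N ⊓ centralizer ({x} : Set G)).Normal := by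
  classical
  by_contra hall
  have hnorm : ∀ x ∈ N, x ∉ zc N →
      normalizer ((N ⊓ centralizer ({x} : Set G) : Subgroup G) : Set G) = centralizer ({x} : Set G) := by
    intro x hx hxZ
    rcases (le_normalizer_inf (N := N) (centralizer ({x} : Set G))).lt_or_eq with hlt | he
    · exact absurd ⟨x, hx, hxZ, normalizer_eq_top_iff.mp ((h x hx hxZ).2 _ hlt)⟩ hall
    · exact he.symm
  -- elements of `N` centralising `x` modulo the centre centralise it
  have hlift : ∀ x ∈ N, x ∉ zc N → ∀ n ∈ N, n * x * n⁻¹ * x⁻¹ ∈ zc N → Commute n x := by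
    intro x hx hxZ n hn hz
    have hnn : n ∈ normalizer ((N ⊓ centralizer ({x} : Set G) : Subgroup G) : Set G) := by
      rw [mem_normalizer_iff]
      intro a
      have key : ∀ b ∈ N, (Commute b x ↔ Commute (n * b * n⁻¹) x) := by
        intro b hb
        have hb' : n * b * n⁻¹ ∈ N := mul_mem (mul_mem hn hb) (inv_mem hn)
        have e : n * x * n⁻¹ = (n * x * n⁻¹ * x⁻¹) * x := by group
        have hzb := zc_commute hz hb'
        constructor
        · intro hbx
          have h1 : Commute (n * b * n⁻¹) (n * x * n⁻¹) := by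
            show n * b * n⁻¹ * (n * x * n⁻¹) = n * x * n⁻¹ * (n * b * n⁻¹)
            calc n * b * n⁻¹ * (n * x * n⁻¹) = n * (b * x) * n⁻¹ := by group
              _ = n * (x * b) * n⁻¹ := by rw [hbx.eq]
              _ = _ := by group
          rw [e] at h1
          have h2 := hzb.symm.inv_right.mul_right h1
          rwa [inv_mul_cancel_left] at h2
        · intro hbx
          have h1 : Commute (n * b * n⁻¹) (n * x * n⁻¹) := by rw [e]; exact hzb.symm.mul_right hbx
          show b * x = x * b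
          calc b * x = n⁻¹ * (n * b * n⁻¹ * (n * x * n⁻¹)) * n := by group
            _ = n⁻¹ * (n * x * n⁻¹ * (n * b * n⁻¹)) * n := by rw [h1.eq]
            _ = x * b := by group
      constructor
      · rintro ⟨ha, hc⟩
        exact ⟨N.mul_mem (N.mul_mem hn ha) (N.inv_mem hn),
          mem_centralizer_singleton_iff.mpr ((key a ha).mp (mem_centralizer_singleton_iff.mp hc)).eq⟩
      · rintro ⟨ha, hc⟩
        have haN : a ∈ N := by simpa [mul_assoc] using mul_mem (mul_mem (inv_mem hn) ha) hn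
        exact ⟨haN, mem_centralizer_singleton_iff.mpr ((key a haN).mpr (mem_centralizer_singleton_iff.mp hc)).eq⟩
    rw [hnorm x hx hxZ] at hnn
    exact mem_centralizer_singleton_iff.mp hnn
  let K := (zc N).subgroupOf N
  have : Nontrivial (N ⧸ K) := by
    obtain ⟨n, hn, hn'⟩ := SetLike.not_le_iff_exists.mp hne
    exact ⟨⟨QuotientGroup.mk ⟨n, hn⟩, 1, fun e => hn' ((QuotientGroup.eq_one_iff (⟨n, hn⟩ : N)).mp e)⟩⟩
  have hnotK : ∀ x : N, (x : N ⧸ K) ≠ 1 → (x : G) ∉ zc N := fun x hx e => hx ((QuotientGroup.eq_one_iff x).mpr e)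
  have hCq : ∀ x n : N, (x : N ⧸ K) ≠ 1 →
      ((n : N ⧸ K) ∈ centralizer ({(x : N ⧸ K)} : Set (N ⧸ K)) ↔ (n : G) ∈ N ⊓ centralizer ({(x : G)} : Set G)) := by
    intro x n hx
    rw [mem_centralizer_singleton_iff, mem_inf, mem_centralizer_singleton_iff]
    constructor
    · intro e
      refine ⟨n.2, (hlift x x.2 (hnotK x hx) n n.2 ?_).eq⟩
      have e1 : (((n * x * n⁻¹ * x⁻¹ : N)) : N ⧸ K) = 1 := by
        simp only [QuotientGroup.mk_mul, QuotientGroup.mk_inv]; rw [e]; group
      have e2 : n * x * n⁻¹ * x⁻¹ ∈ K := (QuotientGroup.eq_one_iff _).mp e1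
      exact e2
    · rintro ⟨-, e⟩
      rw [← QuotientGroup.mk_mul, ← QuotientGroup.mk_mul, show n * x = x * n from Subtype.ext e]
  refine false_of_selfnormalizing_centralizers (Q := N ⧸ K) ?_ ?_ ?_
  · intro c hc
    obtain ⟨x, rfl⟩ := QuotientGroup.mk_surjective c
    refine le_antisymm (fun q hq => ?_) le_normalizer
    obtain ⟨n, rfl⟩ := QuotientGroup.mk_surjective q
    rw [hCq x n hc]
    refine ⟨n.2, ?_⟩
    rw [← hnorm x x.2 (hnotK x hc)]
    refine mem_normalizer_iff.mpr fun a => ?_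
    have hn := mem_normalizer_iff.mp hq
    constructor
    · intro ha
      have h1 := (hn (QuotientGroup.mk ⟨a, ha.1⟩)).mp ((hCq x ⟨a, ha.1⟩ hc).mpr ha)
      rw [← QuotientGroup.mk_mul, ← QuotientGroup.mk_inv, ← QuotientGroup.mk_mul] at h1
      exact (hCq x _ hc).mp h1
    · intro ha
      have haN : a ∈ N := by
        have := hN.conj_mem _ ha.1 (n : G)⁻¹
        simpa [mul_assoc] using this
      refine (hCq x ⟨a, haN⟩ hc).mp ((hn _).mpr ?_)
      rw [← QuotientGroup.mk_mul, ← QuotientGroup.mk_inv, ← QuotientGroup.mk_mul]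
      exact (hCq x _ hc).mpr ha
  · intro c hc htop
    obtain ⟨x, rfl⟩ := QuotientGroup.mk_surjective c
    refine (inf_centralizer_ne x.2 (hnotK x hc)).not_ge fun n hn => ?_
    exact (hCq x ⟨n, hn⟩ hc).mp (htop ▸ mem_top _)
  · intro c hc
    obtain ⟨x, rfl⟩ := QuotientGroup.mk_surjective c
    set S := N ⊓ centralizer ({(x : G)} : Set G) with hS
    have hxZ := hnotK x hc
    -- a noncentral power of `x` of prime-power order
    obtain ⟨i, p, e, hp, hoi, hiZ⟩ : ∃ i p e : ℕ, p.Prime ∧ orderOf ((x : G) ^ i) = p ^ e ∧ (x : G) ^ i ∉ zc N := by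
      by_contra hcon
      simp only [not_exists, not_and, not_not] at hcon
      exact hxZ (mem_of_components fun i p e hp he => hcon i p e hp he)
    have hxi := centralizer_pow_eq h x.2 hiZ
    by_cases hother : ∃ s ∈ S, s ∉ zc N ∧ ∃ q e' : ℕ, q.Prime ∧ q ≠ p ∧ orderOf s = q ^ e'
    · left
      obtain ⟨s, hsS, hsZ, q, e', hq, hqp, hso⟩ := hother
      have hsC : centralizer ({s} : Set G) = centralizer ({(x : G)} : Set G) := by
        rw [← hxi]
        refine (centralizer_eq_of_coprime h (pow_mem x.2 i) hsS.1 hiZ hsZ ?_ ?_).symm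
        · have := mem_centralizer_singleton_iff.mp (hxi.symm ▸ hsS.2 : s ∈ centralizer ({(x : G) ^ i} : Set G))
          exact (show Commute s ((x : G) ^ i) from this).symm
        · rw [hoi, hso]; exact Nat.Coprime.pow _ _ ((Nat.coprime_primes hp hq).mpr hqp.symm)
      have hall' : ∀ u ∈ S, ∀ w ∈ S, Commute u w := by
        intro u hu w hw
        suffices u ∈ centralizer ({w} : Set G) from mem_centralizer_singleton_iff.mp this
        refine mem_of_components fun j r f hr hf => ?_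
        rw [mem_centralizer_singleton_iff]
        by_cases huZ : u ^ j ∈ zc N
        · exact (zc_commute huZ hw.1).eq
        have hC : centralizer ({u ^ j} : Set G) = centralizer ({(x : G)} : Set G) := by
          have huS : u ^ j ∈ S := pow_mem hu j
          by_cases hrp : r = p
          · rw [← hsC]
            refine centralizer_eq_of_coprime h huS.1 hsS.1 huZ hsZ ?_ ?_
            · exact mem_centralizer_singleton_iff.mp (hsC.symm ▸ huS.2 : u ^ j ∈ centralizer ({s} : Set G))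
            · rw [hf, hso, hrp]; exact Nat.Coprime.pow _ _ ((Nat.coprime_primes hp hq).mpr hqp.symm)
          · rw [← hxi]
            refine centralizer_eq_of_coprime h huS.1 (pow_mem x.2 i) huZ hiZ ?_ ?_
            · exact mem_centralizer_singleton_iff.mp (hxi.symm ▸ huS.2 : u ^ j ∈ centralizer ({(x : G) ^ i} : Set G))
            · rw [hf, hoi]; exact Nat.Coprime.pow _ _ ((Nat.coprime_primes hr hp).mpr hrp)
        have hwm : w ∈ centralizer ({u ^ j} : Set G) := hC.symm ▸ hw.2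
        exact (mem_centralizer_singleton_iff.mp hwm).symm
      refine ⟨⟨fun a b => Subtype.ext ?_⟩⟩
      obtain ⟨u, hu⟩ := QuotientGroup.mk_surjective (a : N ⧸ K)
      obtain ⟨w, hw⟩ := QuotientGroup.mk_surjective (b : N ⧸ K)
      have huS := (hCq x u hc).mp (hu ▸ a.2)
      have hwS := (hCq x w hc).mp (hw ▸ b.2)
      show (a : N ⧸ K) * b = b * a
      rw [← hu, ← hw, ← QuotientGroup.mk_mul, ← QuotientGroup.mk_mul,
        show u * w = w * u from Subtype.ext (hall' _ huS _ hwS).eq]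
    · right
      simp only [not_exists, not_and] at hother
      refine ⟨p, hp, fun a => ?_⟩
      obtain ⟨u, hu⟩ := QuotientGroup.mk_surjective (a : N ⧸ K)
      have huS := (hCq x u hc).mp (hu ▸ a.2)
      obtain ⟨f, m, hm, hn⟩ := Nat.exists_eq_pow_mul_and_not_dvd (orderOf_pos (u : G)).ne' p hp.ne_one
      refine ⟨f, Subtype.ext ?_⟩
      show (a : N ⧸ K) ^ p ^ f = 1
      rw [← hu, ← QuotientGroup.mk_pow, QuotientGroup.eq_one_iff]
      show ((u ^ p ^ f : N) : G) ∈ zc N
      push_cast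
      refine mem_of_components fun j r g hr hg => ?_
      by_contra hZ
      rcases eq_or_ne r p with rfl | hrp
      · have hd : orderOf (((u : G) ^ r ^ f) ^ j) ∣ m := orderOf_dvd_of_pow_eq_one (by
          rw [← pow_mul, ← pow_mul, mul_comm j, ← mul_assoc, ← hn, pow_mul, pow_orderOf_eq_one, one_pow])
        rcases Nat.eq_zero_or_pos g with rfl | hg0
        · rw [pow_zero, orderOf_eq_one_iff] at hg
          exact hZ (hg ▸ one_mem _)
        · rw [hg] at hd
          exact hm ((dvd_pow_self r hg0.ne').trans hd)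
      · exact hother _ (pow_mem (pow_mem huS _) _) hZ r g hr hrp hg

omit [Finite G] in
theorem conj_pow_mul {a b z : G} (h : a * b * a⁻¹ = z * b) (hz : Commute a z) :
    ∀ i : ℕ, a ^ i * b * (a ^ i)⁻¹ = z ^ i * b := by
  intro i
  induction i with
  | zero => simp
  | succ i ih =>
    calc a ^ (i + 1) * b * (a ^ (i + 1))⁻¹ = a * (a ^ i * b * (a ^ i)⁻¹) * a⁻¹ := by rw [pow_succ']; group
      _ = (a * z ^ i * a⁻¹) * (a * b * a⁻¹) := by rw [ih]; group
      _ = z ^ i * (z * b) := by rw [h, (hz.pow_right i).eq, mul_inv_cancel_right]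
      _ = z ^ (i + 1) * b := by rw [pow_succ, mul_assoc]

omit [Finite G] in
theorem conj_pow_eq_one {a b z : G} (h : a * b * a⁻¹ = z * b) (hz : Commute a z) {i : ℕ}
    (hi : Commute (a ^ i) b) : z ^ i = 1 := by
  have := conj_pow_mul h hz i
  rw [hi.eq, mul_inv_cancel_right] at this
  exact mul_eq_right.mp this.symm

/-- **Structure**: either `N/Z` is elementary abelian or `N` is Frobenius modulo `Z`. -/
theorem structure_of_maximal_centralizers (h : Hyp N) [hN : N.Normal] :
    (∃ p : ℕ, p.Prime ∧ (∀ x ∈ N, x ^ p ∈ zc N) ∧ ∀ a ∈ N, ∀ b ∈ N, a * b * a⁻¹ * b⁻¹ ∈ zc N) ∨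
    ∃ (p r : ℕ) (L : Subgroup G) (y : G), p.Prime ∧ r.Prime ∧ p ≠ r ∧ L.Normal ∧ L ≤ N ∧ zc N < L ∧
      (∀ a ∈ L, ∀ b ∈ L, Commute a b) ∧ (∀ l ∈ L, l ^ p ∈ zc N) ∧ y ∈ N ∧ y ∉ L ∧ y ^ r ∈ zc N ∧
      N ≤ L ⊔ zpowers y ∧ (∀ n ∈ N, n ∉ L → ∀ l ∈ L, n * l * n⁻¹ * l⁻¹ ∈ zc N → l ∈ zc N) ∧
      ∀ K : Subgroup G, K.Normal → zc N < K → K ≤ L → K = L := by
  classical
  by_cases hne : N ≤ zc N
  · exact Or.inl ⟨2, Nat.prime_two, fun x hx => hne (pow_mem hx 2), fun a ha b hb =>
      hne (mul_mem (mul_mem (mul_mem ha hb) (inv_mem ha)) (inv_mem hb))⟩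
  obtain ⟨x, hx, hxZ, hSn⟩ := exists_normal_centralizer h hne
  set S := N ⊓ centralizer ({x} : Set G) with hS
  set T := S ⊓ centralizer (S : Set G) with hT
  have hTn : T.Normal := inferInstance
  have hTab : ∀ a ∈ T, ∀ b ∈ T, Commute a b := fun a ha b hb => (mem_centralizer_iff.mp ha.2 b hb.1).symm
  have hZS : zc N ≤ S := fun z hz => ⟨hz.1, mem_centralizer_singleton_iff.mpr (zc_commute hz hx).eq⟩
  have hZT : zc N < T := by
    refine lt_of_le_of_ne (fun z hz => ⟨hZS hz, mem_centralizer_iff.mpr fun s hs => (zc_commute hz hs.1).eq.symm⟩)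
      fun e => hxZ (e ▸ ?_)
    exact ⟨⟨hx, mem_centralizer_singleton_iff.mpr rfl⟩,
      mem_centralizer_iff.mpr fun s hs => mem_centralizer_singleton_iff.mp hs.2⟩
  obtain ⟨L, hLT, hL⟩ := exists_minimal_le_of_wellFoundedLT (fun K : Subgroup G => K.Normal ∧ zc N < K) T ⟨hTn, hZT⟩
  obtain ⟨hLn, hZL⟩ := hL.prop
  have hLmin : ∀ K : Subgroup G, K.Normal → zc N < K → K ≤ L → K = L := fun K hK hZK hKL =>
    le_antisymm hKL (hL.le_of_le ⟨hK, hZK⟩ hKL)
  have hLN : L ≤ N := hLT.trans (inf_le_left.trans inf_le_left)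
  have hLab : ∀ a ∈ L, ∀ b ∈ L, Commute a b := fun a ha b hb => hTab a (hLT ha) b (hLT hb)
  -- dichotomy for centralisers
  have hdich : ∀ n ∈ N, n ∉ centralizer (L : Set G) →
      (∀ l ∈ L, Commute l n → l ∈ zc N) ∧ centralizer ({n} : Set G) ⊔ L = ⊤ := by
    intro n hn hnL
    have hnZ : n ∉ zc N := fun e => hnL (mem_centralizer_iff.mpr fun l hl => (zc_commute e (hLN hl)).eq.symm)
    have htop : centralizer ({n} : Set G) ⊔ L = ⊤ := by
      refine (h n hn hnZ).2 _ (lt_of_le_of_ne le_sup_left fun e => hnL ?_)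
      refine mem_centralizer_iff.mpr fun l hl => ?_
      exact mem_centralizer_singleton_iff.mp (e ▸ mem_sup_right hl : l ∈ centralizer ({n} : Set G))
    refine ⟨fun l hl hln => ?_, htop⟩
    have hKn : (L ⊓ centralizer ({n} : Set G)).Normal := by
      refine ⟨fun a ha g => ?_⟩
      obtain ⟨c, hc, b, hb, rfl⟩ := mem_sup_of_normal_right.mp (htop ▸ mem_top g)
      rw [show c * b * a * (c * b)⁻¹ = c * (b * a * b⁻¹) * c⁻¹ by group, (hLab b hb a ha.1).eq, mul_inv_cancel_right]
      exact ⟨hLn.conj_mem a ha.1 c, (centralizer ({n} : Set G)).mul_mem ((centralizer ({n} : Set G)).mul_mem hc ha.2) ((centralizer ({n} : Set G)).inv_mem hc)⟩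
    have hZK : zc N ≤ L ⊓ centralizer ({n} : Set G) := fun z hz =>
      ⟨hZL.le hz, mem_centralizer_singleton_iff.mpr (zc_commute hz hn).eq⟩
    rcases hZK.lt_or_eq with hlt | he
    · exfalso
      apply hnL
      refine mem_centralizer_iff.mpr fun b hb => ?_
      have hb' : b ∈ L ⊓ centralizer ({n} : Set G) := (hLmin _ hKn hlt inf_le_left).symm ▸ hb
      exact mem_centralizer_singleton_iff.mp hb'.2
    · exact he.symm ▸ (⟨hl, mem_centralizer_singleton_iff.mpr hln.eq⟩ : l ∈ L ⊓ centralizer ({n} : Set G))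
  obtain ⟨l0, hl0, hl0Z⟩ := SetLike.exists_of_lt hZL
  set D := N ⊓ centralizer (L : Set G) with hD
  have hDn : D.Normal := inferInstance
  have hDN : D < N := lt_of_le_of_ne inf_le_left fun e => hl0Z
    ⟨hLN hl0, mem_centralizer_iff.mpr fun n hn => (mem_centralizer_iff.mp (inf_eq_left.mp e hn) l0 hl0).symm⟩
  obtain ⟨y0, hy0, hy0D⟩ := SetLike.exists_of_lt hDN
  -- `N/L` is central in `G/L`
  have hcomm1 : ∀ n ∈ N, n ∉ D → ∀ g : G, g * n * g⁻¹ * n⁻¹ ∈ L := by
    intro n hn hnD g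
    obtain ⟨c, hc, b, hb, rfl⟩ :=
      mem_sup_of_normal_right.mp ((hdich n hn fun e => hnD ⟨hn, e⟩).2 ▸ mem_top g)
    have hcn := mem_centralizer_singleton_iff.mp hc
    have h1 : b * n * b⁻¹ * n⁻¹ ∈ L := by
      have := mul_mem hb (hLn.conj_mem _ (inv_mem hb) n)
      simpa [mul_assoc] using this
    have h2 := hLn.conj_mem _ h1 c
    convert h2 using 1
    calc c * b * n * (c * b)⁻¹ * n⁻¹ = c * (b * n * b⁻¹ * n⁻¹) * (n * c⁻¹ * n⁻¹) := by group
      _ = c * (b * n * b⁻¹ * n⁻¹) * c⁻¹ := by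
        rw [show n * c⁻¹ = c⁻¹ * n from ((show Commute c n from hcn).inv_left.eq).symm, mul_inv_cancel_right]
  have hcomm : ∀ n ∈ N, ∀ g : G, g * n * g⁻¹ * n⁻¹ ∈ L := by
    intro n hn g
    by_cases hnD : n ∈ D
    · have h1 : n * y0 ∉ D := fun e => hy0D (by simpa using mul_mem (inv_mem hnD) e)
      have e1 := hcomm1 (n * y0) (mul_mem hn hy0) h1 g
      have e2 := hLn.conj_mem _ (inv_mem (hcomm1 y0 hy0 hy0D g)) n
      have e3 := mul_mem e1 e2
      convert e3 using 1
      group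
    · exact hcomm1 n hn hnD g
  have hLD : L ≤ D := fun l hl => ⟨hLN hl, mem_centralizer_iff.mpr fun b hb => hLab b hb l hl⟩
  -- the prime `p`
  obtain ⟨p, hp, hpL⟩ : ∃ p : ℕ, p.Prime ∧ ∀ l ∈ L, l ^ p ∈ zc N := by
    have hne1 : orderOf (l0 : G ⧸ zc N) ≠ 1 := fun e => hl0Z ((QuotientGroup.eq_one_iff l0).mp (orderOf_eq_one_iff.mp e))
    obtain ⟨p, hp, hpd⟩ := Nat.exists_prime_and_dvd hne1
    refine ⟨p, hp, ?_⟩
    let K : Subgroup G :=
      { carrier := {l | l ∈ L ∧ l ^ p ∈ zc N}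
        one_mem' := ⟨one_mem L, by rw [one_pow]; exact one_mem _⟩
        mul_mem' := fun {a b} ha hb => ⟨mul_mem ha.1 hb.1, by
          rw [(hLab a ha.1 b hb.1).mul_pow]; exact mul_mem ha.2 hb.2⟩
        inv_mem' := fun {a} ha => ⟨inv_mem ha.1, by rw [inv_pow]; exact inv_mem ha.2⟩ }
    have hKn : K.Normal := ⟨fun a ha g => ⟨hLn.conj_mem a ha.1 g, by
      rw [conj_pow]; exact (inferInstance : (zc N).Normal).conj_mem _ ha.2 g⟩⟩
    have hZK : zc N < K := by
      refine lt_of_le_of_ne (fun z hz => ⟨hZL.le hz, pow_mem hz p⟩) fun e => ?_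
      have hm : l0 ^ (orderOf (l0 : G ⧸ zc N) / p) ∈ K := ⟨pow_mem hl0 _, by
        rw [← pow_mul, Nat.div_mul_cancel hpd, ← QuotientGroup.eq_one_iff, QuotientGroup.mk_pow, pow_orderOf_eq_one]⟩
      rw [← e, ← QuotientGroup.eq_one_iff, QuotientGroup.mk_pow, ← orderOf_dvd_iff_pow_eq_one] at hm
      have hpos := orderOf_pos (l0 : G ⧸ zc N)
      have h1 := Nat.le_of_dvd (Nat.div_pos (Nat.le_of_dvd hpos hpd) hp.pos) hm
      have h2 := Nat.div_lt_self hpos hp.one_lt
      omega
    intro l hl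
    exact ((hLmin K hKn hZK fun a ha => ha.1).symm ▸ hl : l ∈ K).2
  -- a `p`-element in `L`
  obtain ⟨u, hu, huZ, eu, huo⟩ : ∃ u ∈ L, u ∉ zc N ∧ ∃ e : ℕ, orderOf u = p ^ e := by
    obtain ⟨i, e, he, hi⟩ := exists_component (zc N) hp l0
    refine ⟨l0 ^ i, pow_mem hl0 i, fun hm => hl0Z ?_, e, he⟩
    have := mul_mem hm (inv_mem (hi ⟨1, by rw [pow_one]; exact hpL l0 hl0⟩))
    simpa using this
  -- `D` is a `p`-group modulo the centre
  have hDq : ∀ w ∈ D, ∀ q e : ℕ, q.Prime → q ≠ p → orderOf w = q ^ e → w ∈ zc N := by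
    intro w hw q e hq hqp hwo
    by_contra hwZ
    have hwu : Commute w u := (mem_centralizer_iff.mp hw.2 u hu).symm
    have hCw := centralizer_eq_of_coprime h hw.1 (hLN hu) hwZ huZ hwu
      (by rw [hwo, huo]; exact Nat.Coprime.pow _ _ ((Nat.coprime_primes hq hp).mpr hqp))
    set n := y0 with hn'
    have hnL : n ∉ centralizer (L : Set G) := fun e => hy0D ⟨hy0, e⟩
    have hnw : ¬ Commute n w := fun hc => huZ ((hdich n hy0 hnL).1 u hu (by
      have : n ∈ centralizer ({w} : Set G) := mem_centralizer_singleton_iff.mpr hc.eq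
      rw [hCw, mem_centralizer_singleton_iff] at this
      exact (show Commute n u from this).symm))
    apply hnw
    have hcw : n * w * n⁻¹ * w⁻¹ ∈ L := hcomm w hw.1 n
    set v := n * w * n⁻¹ * w⁻¹ with hv
    have hvw : Commute v w := mem_centralizer_iff.mp hw.2 v hcw
    have hqe : v ^ q ^ e = 1 := by
      have h1 : n * w * n⁻¹ = v * w := by simp [hv]
      have h2 : (n * w * n⁻¹) ^ q ^ e = 1 := by rw [conj_pow, ← hwo, pow_orderOf_eq_one]; group
      rwa [h1, hvw.mul_pow, show w ^ q ^ e = 1 by rw [← hwo, pow_orderOf_eq_one], mul_one] at h2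
    have hvZ : v ∈ zc N := by
      rw [← QuotientGroup.eq_one_iff]
      refine orderOf_eq_one_iff.mp (Nat.eq_one_of_dvd_coprimes ((Nat.coprime_primes hp hq).mpr hqp.symm |>.pow 1 e) ?_ ?_)
      · rw [pow_one]; refine orderOf_dvd_of_pow_eq_one ?_
        rw [← QuotientGroup.mk_pow, QuotientGroup.eq_one_iff]; exact hpL v hcw
      · exact orderOf_dvd_of_pow_eq_one (by rw [← QuotientGroup.mk_pow, hqe]; rfl)
    obtain ⟨c, hc, b, hb, hcb⟩ := mem_sup_of_normal_right.mp ((hdich n hy0 hnL).2 ▸ mem_top w)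
    have hcn := mem_centralizer_singleton_iff.mp hc
    have h3 : b * n * b⁻¹ = (c⁻¹ * v⁻¹ * c) * n := by
      have h4 : w * n * w⁻¹ = v⁻¹ * n := by
        have h5 : v⁻¹ = w * n * w⁻¹ * n⁻¹ := by rw [hv]; group
        rw [h5]; group
      calc b * n * b⁻¹ = c⁻¹ * (c * b * n * (c * b)⁻¹) * c := by group
        _ = c⁻¹ * (v⁻¹ * n) * c := by rw [hcb, h4]
        _ = c⁻¹ * v⁻¹ * (n * c) := by group
        _ = _ := by rw [← hcn]; group
    have hz' : c⁻¹ * v⁻¹ * c ∈ zc N := by
      have := (inferInstance : (zc N).Normal).conj_mem _ (inv_mem hvZ) c⁻¹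
      simpa using this
    have h6 : (c⁻¹ * v⁻¹ * c) ^ p = 1 :=
      conj_pow_eq_one h3 (zc_commute hz' (hLN hb)).symm (zc_commute (hpL b hb) hy0)
    have h7 : v ^ p = 1 := by
      have := conj_pow (a := c⁻¹) (b := v⁻¹) (i := p)
      rw [inv_inv, h6] at this
      have h8 : v⁻¹ ^ p = 1 := by
        have := congrArg (fun t => c * t * c⁻¹) this
        simpa [mul_assoc] using this.symm
      simpa using h8
    have hv1 : v = 1 := orderOf_eq_one_iff.mp (Nat.eq_one_of_dvd_coprimes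
      ((Nat.coprime_primes hp hq).mpr hqp.symm |>.pow 1 e) (by rw [pow_one]; exact orderOf_dvd_of_pow_eq_one h7)
      (orderOf_dvd_of_pow_eq_one hqe))
    show n * w = w * n
    have : n * w * n⁻¹ * w⁻¹ = 1 := hv ▸ hv1
    rw [mul_inv_eq_one, mul_inv_eq_iff_eq_mul] at this
    exact this
  have hDp : ∀ w ∈ D, ∃ k, w ^ p ^ k ∈ zc N := by
    intro w hw
    obtain ⟨f, m, hm, hn⟩ := Nat.exists_eq_pow_mul_and_not_dvd (orderOf_pos w).ne' p hp.ne_one
    refine ⟨f, mem_of_components fun j r g hr hg => ?_⟩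
    rcases eq_or_ne r p with rfl | hrp
    · have hd : orderOf ((w ^ r ^ f) ^ j) ∣ m := orderOf_dvd_of_pow_eq_one (by
        rw [← pow_mul, ← pow_mul, mul_comm j, ← mul_assoc, ← hn, pow_mul, pow_orderOf_eq_one, one_pow])
      rcases Nat.eq_zero_or_pos g with rfl | hg0
      · rw [pow_zero, orderOf_eq_one_iff] at hg; rw [hg]; exact one_mem _
      · rw [hg] at hd; exact absurd ((dvd_pow_self r hg0.ne').trans hd) hm
    · exact hDq _ (pow_mem (pow_mem hw _) _) r g hr hrp hg
  by_cases hallp : ∀ n ∈ N, ∃ k, n ^ p ^ k ∈ zc N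
  · exact Or.inl ⟨p, hp, elementary_of_pGroup h hp hallp⟩
  -- an element of prime-power order prime to `p`
  obtain ⟨y, hy, q, e, hq, hqp, hyo, hyZ⟩ : ∃ y ∈ N, ∃ q e : ℕ, q.Prime ∧ q ≠ p ∧ orderOf y = q ^ e ∧ y ∉ zc N := by
    by_contra hcon
    apply hallp
    intro n hn
    obtain ⟨f, m, hm, hno⟩ := Nat.exists_eq_pow_mul_and_not_dvd (orderOf_pos n).ne' p hp.ne_one
    refine ⟨f, mem_of_components fun j r g hr hg => ?_⟩
    by_contra hZ
    rcases eq_or_ne r p with rfl | hrp
    · have hd : orderOf ((n ^ r ^ f) ^ j) ∣ m := orderOf_dvd_of_pow_eq_one (by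
        rw [← pow_mul, ← pow_mul, mul_comm j, ← mul_assoc, ← hno, pow_mul, pow_orderOf_eq_one, one_pow])
      rcases Nat.eq_zero_or_pos g with rfl | hg0
      · rw [pow_zero, orderOf_eq_one_iff] at hg; exact hZ (hg ▸ one_mem _)
      · rw [hg] at hd; exact hm ((dvd_pow_self r hg0.ne').trans hd)
    · exact hcon ⟨_, pow_mem (pow_mem hn _) _, r, g, hr, hrp, hg, hZ⟩
  -- a `p'`-element outside `D` fixes nothing
  have hfix0 : ∀ w ∈ N, w ∉ D → ∀ t k : ℕ, t.Prime → t ≠ p → orderOf w = t ^ k →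
      ∀ l ∈ L, w * l * w⁻¹ * l⁻¹ ∈ zc N → l ∈ zc N := by
    intro w hw hwD t k ht htp hwo l hl hz
    refine (hdich w hw fun e => hwD ⟨hw, e⟩).1 l hl ?_
    set z := w * l * w⁻¹ * l⁻¹ with hzdef
    have h1 : w * l * w⁻¹ = z * l := by simp [hzdef]
    have h2 := conj_pow_eq_one h1 (zc_commute hz hw).symm (i := t ^ k)
      (by rw [← hwo, pow_orderOf_eq_one]; exact Commute.one_left l)
    have h3 : z ^ p = 1 := by
      have h4 : (w * l * w⁻¹) ^ p = l ^ p := by
        rw [conj_pow, ← (zc_commute (hpL l hl) hw).eq, mul_inv_cancel_right]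
      rw [h1, (zc_commute hz (hLN hl)).mul_pow] at h4
      exact mul_eq_right.mp h4
    have hz1 : z = 1 := orderOf_eq_one_iff.mp (Nat.eq_one_of_dvd_coprimes
      ((Nat.coprime_primes hp ht).mpr htp.symm |>.pow 1 k) (by rw [pow_one]; exact orderOf_dvd_of_pow_eq_one h3)
      (orderOf_dvd_of_pow_eq_one h2))
    rw [hz1, one_mul, mul_inv_eq_iff_eq_mul] at h1
    exact h1.symm
  have hyD : y ∉ D := fun e' => hyZ (hDq y e' q e hq hqp hyo)
  -- `D = L`
  have hDL : D = L := by
    refine le_antisymm (fun d hd => ?_) hLD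
    let A := L ⧸ (zc N).subgroupOf L
    let f : A → A := fun a => QuotientGroup.mk ⟨y * (a.out : G) * y⁻¹ * (a.out : G)⁻¹,
      mul_mem (hLn.conj_mem _ a.out.2 y) (inv_mem a.out.2)⟩
    have hf : Function.Injective f := by
      intro a b hab
      rw [QuotientGroup.eq, mem_subgroupOf] at hab
      push_cast at hab
      have hmem : (a.out : G)⁻¹ * b.out ∈ L := mul_mem (inv_mem a.out.2) b.out.2
      have hz := hfix0 y hy hyD q e hq hqp hyo _ hmem ?_
      · rw [← QuotientGroup.out_eq' a, ← QuotientGroup.out_eq' b]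
        exact QuotientGroup.eq.mpr hz
      · set A1 := y * (a.out : G) * y⁻¹ with hA1
        set B1 := y * (b.out : G) * y⁻¹ with hB1
        have hA1L : A1 ∈ L := hLn.conj_mem _ a.out.2 y
        have hB1L : B1 ∈ L := hLn.conj_mem _ b.out.2 y
        have e1 : y * ((a.out : G)⁻¹ * b.out) * y⁻¹ * ((a.out : G)⁻¹ * b.out)⁻¹ = (A1⁻¹ * B1) * ((b.out : G)⁻¹ * a.out) := by
          rw [hA1, hB1]; group
        have e2 : (A1 * (a.out : G)⁻¹)⁻¹ * (B1 * (b.out : G)⁻¹) = (A1⁻¹ * B1) * ((b.out : G)⁻¹ * a.out) := by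
          have hX : A1⁻¹ * B1 * (b.out : G)⁻¹ ∈ L := mul_mem (mul_mem (inv_mem hA1L) hB1L) (inv_mem b.out.2)
          calc (A1 * (a.out : G)⁻¹)⁻¹ * (B1 * (b.out : G)⁻¹) = (a.out : G) * (A1⁻¹ * B1 * (b.out : G)⁻¹) := by group
            _ = (A1⁻¹ * B1 * (b.out : G)⁻¹) * (a.out : G) := (hLab _ a.out.2 _ hX).eq
            _ = _ := by group
        rw [e1, ← e2]; exact hab
    obtain ⟨a, ha⟩ := (Finite.injective_iff_surjective.mp hf)
      (QuotientGroup.mk (⟨y * d * y⁻¹ * d⁻¹, hcomm d hd.1 y⟩ : L))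
    set l : G := (a.out : G) with hl
    have hlL : l ∈ L := a.out.2
    rw [QuotientGroup.eq, mem_subgroupOf] at ha
    push_cast at ha
    set d' := d * l⁻¹ with hd'
    have hd'D : d' ∈ D := mul_mem hd (inv_mem (hLD hlL))
    have hz : y * d' * y⁻¹ * d'⁻¹ ∈ zc N := by
      have hc1 : ∀ m ∈ L, Commute d m := fun m hm => (mem_centralizer_iff.mp hd.2 m hm).symm
      have e1 : y * d' * y⁻¹ * d'⁻¹ = (y * d * y⁻¹ * d⁻¹) * (y * l * y⁻¹ * l⁻¹)⁻¹ := by
        have hml : y * l⁻¹ * y⁻¹ * l ∈ L := mul_mem (hLn.conj_mem _ (inv_mem hlL) y) hlL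
        calc y * d' * y⁻¹ * d'⁻¹ = (y * d * y⁻¹) * ((y * l⁻¹ * y⁻¹ * l) * d⁻¹) := by rw [hd']; group
          _ = (y * d * y⁻¹) * (d⁻¹ * (y * l⁻¹ * y⁻¹ * l)) := by rw [((hc1 _ hml).inv_left).eq]
          _ = (y * d * y⁻¹ * d⁻¹) * (l * (y * l⁻¹ * y⁻¹)) := by
              rw [(hLab _ (hLn.conj_mem _ (inv_mem hlL) y) l hlL).eq]; group
          _ = _ := by group
      rw [e1]
      have h3 := (inferInstance : (zc N).Normal).conj_mem _ ha (y * l * y⁻¹ * l⁻¹)
      convert h3 using 1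
      rw [hl]
      group
    -- the `p`-component of `d'`
    obtain ⟨i, f', hio, hi⟩ := exists_component (zc N) hp d'
    have hiz := hi (hDp d' hd'D)
    set d1 := d' ^ i with hd1
    have hd1z : y * d1 * y⁻¹ * d1⁻¹ ∈ zc N := by
      rw [← QuotientGroup.eq_one_iff] at hz hiz ⊢
      rw [QuotientGroup.mk_mul, QuotientGroup.mk_inv, inv_mul_eq_one] at hiz
      simpa only [QuotientGroup.mk_mul, QuotientGroup.mk_inv, hiz] using hz
    set z := y * d1 * y⁻¹ * d1⁻¹ with hzdef
    have h1 : y * d1 * y⁻¹ = z * d1 := by simp [hzdef]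
    have h2 := conj_pow_eq_one h1 (zc_commute hd1z hy).symm (i := q ^ e)
      (by rw [← hyo, pow_orderOf_eq_one]; exact Commute.one_left d1)
    have h3 : z ^ p ^ f' = 1 := by
      have h4 : (y * d1 * y⁻¹) ^ p ^ f' = 1 := by rw [conj_pow, ← hio, pow_orderOf_eq_one]; group
      rwa [h1, (zc_commute hd1z (pow_mem hd'D.1 i)).mul_pow, ← hio, pow_orderOf_eq_one, mul_one, hio] at h4
    have hz1 : z = 1 := orderOf_eq_one_iff.mp (Nat.eq_one_of_dvd_coprimes
      ((Nat.coprime_primes hp hq).mpr hqp.symm |>.pow f' e) (orderOf_dvd_of_pow_eq_one h3)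
      (orderOf_dvd_of_pow_eq_one h2))
    rw [hz1, one_mul, mul_inv_eq_iff_eq_mul] at h1
    have hd1Z : d1 ∈ zc N := by
      by_contra hcon
      apply hyD
      refine ⟨hy, mem_centralizer_iff.mpr fun m hm => ?_⟩
      have hC := centralizer_eq_of_coprime h hy (pow_mem hd'D.1 i) hyZ hcon h1
        (by rw [hyo, hio]; exact Nat.Coprime.pow _ _ ((Nat.coprime_primes hq hp).mpr hqp))
      have : m ∈ centralizer ({y} : Set G) := by
        rw [hC, mem_centralizer_singleton_iff]
        exact mem_centralizer_iff.mp (pow_mem hd'D i).2 m hm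
      exact mem_centralizer_singleton_iff.mp this
    have hd'L : d' ∈ L := by
      have := mul_mem (hZL.le hd1Z) (inv_mem (hZL.le hiz))
      simpa [hd1] using this
    have := mul_mem hd'L hlL
    simpa [hd'] using this
  -- `N/L` has prime order
  have hCu : N ⊓ centralizer ({u} : Set G) = L := by
    refine le_antisymm (fun n hn => ?_) (fun l hl => ⟨hLN hl, mem_centralizer_singleton_iff.mpr (hLab l hl u hu).eq⟩)
    rw [← hDL]
    refine ⟨hn.1, ?_⟩
    by_contra hnL
    exact huZ ((hdich n hn.1 hnL).1 u hu (show Commute n u from mem_centralizer_singleton_iff.mp hn.2).symm)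
  have hsup : ∀ w ∈ N, w ∉ L → N ≤ L ⊔ zpowers w := by
    intro w hw hwL
    have hle : L ⊔ zpowers w ≤ N := sup_le hLN (zpowers_le.mpr hw)
    refine (eq_of_normal_gt h (hLN hu) huZ ⟨fun a ha g => ?_⟩ hle ?_).ge
    · simpa using mul_mem (mem_sup_left (hcomm a (hle ha) g) : g * a * g⁻¹ * a⁻¹ ∈ L ⊔ zpowers w) ha
    · rw [hCu]
      exact lt_of_le_of_ne le_sup_left fun e' => hwL (e' ▸ mem_sup_right (mem_zpowers w))
  have hyL : y ∉ L := fun e' => hyD (hLD e')
  -- replace `y` by an element of order `q` modulo `L`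
  obtain ⟨j, hjm, hjL⟩ : ∃ j : ℕ, (y ^ q ^ j) ∉ L ∧ (y ^ q ^ j) ^ q ∈ L := by
    have hex : ∃ j, y ^ q ^ j ∈ L := ⟨e, by rw [← hyo, pow_orderOf_eq_one]; exact one_mem L⟩
    obtain ⟨j, hj⟩ : ∃ j, Nat.find hex = j + 1 := Nat.exists_eq_succ_of_ne_zero fun h0 => hyL (by
      have := Nat.find_spec hex
      rw [h0, pow_zero, pow_one] at this; exact this)
    exact ⟨j, Nat.find_min hex (by omega), by rw [← pow_mul, ← pow_succ, ← hj]; exact Nat.find_spec hex⟩
  set y1 := y ^ q ^ j with hy1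
  obtain ⟨e1, he1⟩ : ∃ e1, orderOf y1 = q ^ e1 := by
    obtain ⟨e1, -, h1⟩ := (Nat.dvd_prime_pow hq).mp (hyo ▸ orderOf_pow_dvd (q ^ j) : orderOf y1 ∣ q ^ e)
    exact ⟨e1, h1⟩
  have hy1r : y1 ^ q ∈ zc N := by
    obtain ⟨e2, -, h2⟩ := (Nat.dvd_prime_pow hq).mp (he1 ▸ orderOf_pow_dvd q : orderOf (y1 ^ q) ∣ q ^ e1)
    exact hDq _ (hLD hjL) q e2 hq hqp h2
  refine Or.inr ⟨p, q, L, y1, hp, hq, hqp.symm, hLn, hLN, hZL, hLab, hpL, pow_mem hy _, hjm, hy1r,
    hsup y1 (pow_mem hy _) hjm, ?_, hLmin⟩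
  intro n hn hnL l hl hz
  obtain ⟨l0', hl0', w, hw, rfl⟩ := mem_sup_of_normal_left.mp (hsup y1 (pow_mem hy _) hjm hn)
  obtain ⟨i, rfl⟩ := (mem_powers_iff_mem_zpowers (x := y1)).mpr hw
  simp only at hnL hz ⊢
  have hwD : y1 ^ i ∉ D := fun e' => hnL (mul_mem hl0' (hDL ▸ e'))
  obtain ⟨k, -, hk⟩ := (Nat.dvd_prime_pow hq).mp (he1 ▸ orderOf_pow_dvd i : orderOf (y1 ^ i) ∣ q ^ e1)
  refine hfix0 _ (pow_mem (pow_mem hy _) i) hwD q k hq hqp hk l hl ?_
  convert hz using 1
  have hm := hLn.conj_mem l hl (y1 ^ i)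
  calc y1 ^ i * l * (y1 ^ i)⁻¹ * l⁻¹ = l0' * (y1 ^ i * l * (y1 ^ i)⁻¹) * l0'⁻¹ * l⁻¹ := by
        rw [(hLab l0' hl0' _ hm).eq, mul_inv_cancel_right]
    _ = _ := by group

/-- The structure of a quotient of `N` by its centre. -/
theorem quotient_structure (h : Hyp N) [hN : N.Normal] {Q : Type*} [Group Q] [Finite Q] (f : N →* Q)
    (hf : Function.Surjective f) (hker : ∀ n : N, f n = 1 ↔ (n : G) ∈ zc N) :
    (∃ p : ℕ, p.Prime ∧ IsMulCommutative (⊤ : Subgroup Q) ∧ ∀ a ∈ (⊤ : Subgroup Q), a ^ p = 1) ∨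
    ∃ (p r a : ℕ) (C K : Subgroup Q), p.Prime ∧ r.Prime ∧ p ≠ r ∧ K.Normal ∧ K.index = r ∧ Nat.card K = p ^ a ∧
      IsMulCommutative K ∧ (∀ x ∈ K, x ^ p = 1) ∧ Nat.card C = r ∧ Cfsg.IsFrobeniusComplement C ∧
      Cfsg.frobeniusKernel C = (K : Set Q) ∧
      (N = ⊤ → ∀ M : Subgroup Q, M.Normal → M ≤ K → M = ⊥ ∨ M = K) := by
  classical
  rcases structure_of_maximal_centralizers h with ⟨p, hp, hpow, hcom⟩ |
    ⟨p, r, L, y, hp, hr, hpr, hLn, hLN, hZL, hLab, hpL, hy, hyL, hyr, hsup, hfpf, hmin⟩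
  · refine Or.inl ⟨p, hp, ⟨⟨fun a b => Subtype.ext ?_⟩⟩, fun a _ => ?_⟩
    · obtain ⟨u, hu⟩ := hf a
      obtain ⟨w, hw⟩ := hf b
      show (a : Q) * b = b * a
      rw [← hu, ← hw, ← commutatorElement_eq_one_iff_mul_comm, ← map_commutatorElement, hker]
      exact hcom u u.2 w w.2
    · obtain ⟨u, rfl⟩ := hf a
      rw [← map_pow, hker]
      exact hpow u u.2
  have := Fact.mk hr
  have := Fact.mk hp
  set K := (L.subgroupOf N).map f with hK
  have hKn : K.Normal := (inferInstance : (L.subgroupOf N).Normal).map f hf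
  have hmemK : ∀ n : N, f n ∈ K ↔ (n : G) ∈ L := by
    refine fun n => ⟨?_, fun hn => ⟨n, hn, rfl⟩⟩
    rintro ⟨m, hm, e⟩
    have hz : ((m⁻¹ * n : N) : G) ∈ L := hZL.le ((hker _).mp (by rw [map_mul, map_inv, e, inv_mul_cancel]))
    push_cast at hz
    have hm' : (m : G) ∈ L := hm
    simpa using mul_mem hm' hz
  have hKpow : ∀ x ∈ K, x ^ p = 1 := by
    rintro _ ⟨n, hn, rfl⟩
    rw [← map_pow, hker]
    exact hpL _ hn
  have hKab : IsMulCommutative K := by
    refine ⟨⟨?_⟩⟩
    rintro ⟨_, n, hn, rfl⟩ ⟨_, m, hm, rfl⟩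
    refine Subtype.ext ?_
    show f n * f m = f m * f n
    rw [← map_mul, ← map_mul]
    exact congrArg f (Subtype.ext (hLab _ hn _ hm).eq)
  obtain ⟨a, ha⟩ := IsPGroup.iff_card.mp (fun x => ⟨1, Subtype.ext (by
    simpa using hKpow (x : Q) x.2)⟩ : IsPGroup p K)
  set yq := f ⟨y, hy⟩ with hyq
  have hyK : yq ∉ K := fun e => hyL ((hmemK _).mp e)
  have hyo : orderOf yq = r := by
    refine orderOf_eq_prime ?_ fun e => hyK (e ▸ one_mem K)
    rw [hyq, ← map_pow, hker]
    exact hyr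
  set C := zpowers yq with hC
  have hCcard : Nat.card C = r := by rw [Nat.card_zpowers, hyo]
  have hCtop : K ⊔ C = ⊤ := by
    refine eq_top_iff.mpr fun q _ => ?_
    obtain ⟨n, rfl⟩ := hf q
    obtain ⟨l, hl, w, hw, hlw⟩ := mem_sup_of_normal_left.mp (hsup n.2)
    obtain ⟨i, rfl⟩ := mem_zpowers_iff.mp hw
    have : n = ⟨l, hLN hl⟩ * ⟨y, hy⟩ ^ i := Subtype.ext (by push_cast; exact hlw.symm)
    rw [this, map_mul, map_zpow]
    exact mul_mem (mem_sup_left ((hmemK _).mpr hl)) (mem_sup_right (zpow_mem_zpowers _ i))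
  have hdisj : Disjoint K C := by
    rw [disjoint_iff, eq_bot_iff]
    intro q hq
    by_contra hq1
    have h1 : zpowers q ≤ C := zpowers_le.mpr hq.2
    have h2 : Nat.card (zpowers q) = r := by
      rcases (Nat.dvd_prime hr).mp (hCcard ▸ card_dvd_of_le h1) with h' | h'
      · exact absurd (zpowers_eq_bot.mp (Subgroup.card_eq_one.mp h')) hq1
      · exact h'
    apply hyK
    have := Subgroup.eq_of_le_of_card_ge h1 (le_of_eq (hCcard.trans h2.symm))
    have hy' : yq ∈ zpowers q := this ▸ mem_zpowers yq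
    exact (zpowers_le.mpr hq.1) hy'
  have hc : Subgroup.IsComplement' K C := Subgroup.isComplement'_of_disjoint_and_mul_eq_univ hdisj
    (by rw [← Subgroup.normal_mul, hCtop, coe_top])
  have hidx : K.index = r := by rw [hc.symm.index_eq_card, hCcard]
  have hC1 : C ≠ ⊥ := fun e => by rw [e, Subgroup.card_bot] at hCcard; exact hr.ne_one hCcard.symm
  have hK1 : K ≠ ⊥ := fun e => by
    obtain ⟨l, hl, hlZ⟩ := SetLike.exists_of_lt hZL
    have : f ⟨l, hLN hl⟩ ∈ K := (hmemK _).mpr hl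
    rw [e, mem_bot, hker] at this
    exact hlZ this
  have hF : Cfsg.IsFrobeniusComplement C := by
    refine (Frobenius.isFrobeniusComplement_iff hc hK1 hC1).mpr fun c hcC hc1 => ?_
    refine (Subgroup.eq_bot_iff_forall _).mpr ?_
    rintro _ ⟨⟨l, hl, rfl⟩, hlc⟩
    obtain ⟨n, rfl⟩ := hf c
    have hnL : (n : G) ∉ L := fun e => hc1 (Subgroup.disjoint_def.mp hdisj ((hmemK n).mpr e) hcC)
    replace hlc := mem_centralizer_singleton_iff.mp hlc
    rw [hker]
    refine hfpf n n.2 hnL l hl ?_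
    have e : f (n * l * n⁻¹ * l⁻¹) = 1 := by
      simp only [map_mul, map_inv, ← hlc, mul_inv_cancel_right, mul_inv_cancel]
    exact (hker _).mp e
  refine Or.inr ⟨p, r, a, C, K, hp, hr, hpr, hKn, hidx, ha, hKab, hKpow, hCcard, hF, ?_, ?_⟩
  · refine (Set.eq_of_subset_of_ncard_le ?_ ?_ (Set.toFinite _)).symm
    · intro x hx
      by_cases hx1 : x = 1
      · exact Or.inl hx1
      refine Or.inr fun g hg => hx1 ?_
      rw [Coprime.mem_conj_smul_iff] at hg
      have h1 : g⁻¹ * x * g = 1 := Subgroup.disjoint_def.mp hdisj (by simpa using hKn.conj_mem x hx g⁻¹) hg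
      calc x = g * (g⁻¹ * x * g) * g⁻¹ := by group
        _ = 1 := by rw [h1]; group
    · rw [← Nat.card_coe_set_eq, ← Nat.card_coe_set_eq, Frobenius.card_kernel hF]
      exact le_of_eq hc.index_eq_card
  · intro htop M hM hMK
    set M' := (M.comap f).map N.subtype with hM'
    have hM'n : M'.Normal := ⟨by
      rintro _ ⟨m, hm, rfl⟩ g
      have hg : g ∈ N := htop ▸ mem_top g
      exact ⟨⟨g, hg⟩ * m * ⟨g, hg⟩⁻¹, (inferInstance : (M.comap f).Normal).conj_mem m hm ⟨g, hg⟩, rfl⟩⟩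
    have hZM : zc N ≤ M' := fun z hz => ⟨⟨z, hz.1⟩, by
      rw [SetLike.mem_coe, mem_comap, (hker _).mpr hz]; exact one_mem M, rfl⟩
    have hM'L : M' ≤ L := by
      rintro _ ⟨m, hm, rfl⟩
      exact (hmemK m).mp (hMK hm)
    rcases hZM.lt_or_eq with hlt | heq
    · right
      refine le_antisymm hMK ?_
      rintro _ ⟨l, hl, rfl⟩
      obtain ⟨m, hm, e⟩ := (hmin M' hM'n hlt hM'L).ge hl
      have : m = l := Subtype.ext e
      exact this ▸ hm
    · left
      refine (Subgroup.eq_bot_iff_forall _).mpr fun q hq => ?_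
      obtain ⟨n, rfl⟩ := hf q
      rw [hker]
      exact heq.ge ⟨n, hq, rfl⟩

end Main

end Cfsg.Agent.MaxCentralizer
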